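import Cfsg.Agent.O73Three.Core
import Cfsg.Agent.O73Three.Data

/-! Evaluation of the certificates for the elements of order three in `Ω(7,3)`. -/

set_option autoImplicit false
set_option maxRecDepth 100000
set_option Elab.async false

namespace CfsgLib.O73Three

open CfsgLib.Coset

theorem pc_ok : checkPC gw normC cubeC = true := by decide +kernel

theorem gw_letters : checkLetters 8 gw = true := by decide +kernel

/-- The words generating the first level. -/
def L0G : List (List Nat) := L0E.map (powWord gw)

/-- The words generating the second level. -/
def L1G : List (List Nat) := L1E.map (powWord gw)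

theorem orbit0 : checkOrbit O73.Top.Tb 3136 2187 12 L0G L0P L0Inv = true := by decide +kernel

theorem orbit1 : checkOrbit O73.Top.Tb 3114 9 4 L1G L1P L1Inv = true := by decide +kernel

theorem fix1 : checkFix O73.Top.Tb [3136] L1G = true := by decide +kernel

theorem letters0 : checkLetters 8 L0G = true ∧ checkLetters 8 L1G = true := by decide +kernel

/-- The conjugator of the first stage. -/
def conj1 (a : Nat) : List Nat := (cs1.getD a ([], [])).1.flatMap fun i => poolW.getD i []

/-- The conjugators normalise the subgroup of the first five generators. -/
noncomputable def checkCs : Bool :=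
  allList (fun a => allList (fun i =>
    sameB (conjWord (conj1 a) (gw.getD i []))
      (powWord (gw.take 5) ((cs1.getD a ([], [])).2.getD i []))) (List.range 5)) (List.range cs1.length)

theorem cs_ok : checkCs = true := by decide +kernel

/-- One entry of the first stage. -/
noncomputable def check1 (p : List Nat × (Nat × Nat × List Nat)) : Bool :=
  cond (cond (Nat.ble (Nat.add p.2.1 1) cs1.length) (Nat.ble (Nat.add p.2.2.1 1) 9) false)
    (sameB (conjWord (conj1 p.2.1) (powWord (gw.drop 5) p.1))
      (powWord (gw.take 5) p.2.2.2 ++ powWord (gw.drop 5) (kreps.getD p.2.2.1 []))) false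

theorem cert1_ok : allList check1 ((expLists 4).zip cert1) = true := by decide +kernel

theorem cert1_len : cert1.length = (expLists 4).length := by decide +kernel

/-- The representatives. -/
def R7 : List (List Nat) := reps7.map (powWord gw)

/-- One entry of the second stage. -/
noncomputable def check2 (k : Nat) (p : List Nat × (List Nat × Nat)) : Bool :=
  checkLeaf poolW R7 (powWord (gw.take 5) p.1 ++ powWord (gw.drop 5) (kreps.getD k [])) p.2

/-- The second stage lists. -/
def cert2 : List (List (List Nat × Nat)) :=
  [cert2_0, cert2_1, cert2_2, cert2_3, cert2_4, cert2_5, cert2_6, cert2_7, cert2_8]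

theorem cert2_len : allList (fun c => Nat.beq c.length 243) cert2 = true ∧
    (expLists 5).length = 243 := by decide +kernel

theorem reps_cube : (R7.all fun w => checkLetters 8 [w] && sameB (w ++ w ++ w) [] && movesB w) = true := by
  decide +kernel

theorem R7_len : R7.length = 7 := by decide +kernel

end CfsgLib.O73Three
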