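import Cfsg.Agent.O73Three.Checks

/-! Second-stage certificates. -/

set_option autoImplicit false
set_option maxRecDepth 100000
set_option Elab.async false

namespace CfsgLib.O73Three

open CfsgLib.Coset

theorem cert2_ok0 : allList (check2 0) ((expLists 5).zip cert2_0) = true := by decide +kernel
theorem cert2_ok1 : allList (check2 1) ((expLists 5).zip cert2_1) = true := by decide +kernel
theorem cert2_ok2 : allList (check2 2) ((expLists 5).zip cert2_2) = true := by decide +kernel
theorem cert2_ok3 : allList (check2 3) ((expLists 5).zip cert2_3) = true := by decide +kernel
theorem cert2_ok4 : allList (check2 4) ((expLists 5).zip cert2_4) = true := by decide +kernel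

end CfsgLib.O73Three
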