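import Cfsg.Agent.O73Three.Checks

/-! Second-stage certificates. -/

set_option autoImplicit false
set_option maxRecDepth 100000
set_option Elab.async false

namespace CfsgLib.O73Three

open CfsgLib.Coset

theorem cert2_ok5 : allList (check2 5) ((expLists 5).zip cert2_5) = true := by decide +kernel
theorem cert2_ok6 : allList (check2 6) ((expLists 5).zip cert2_6) = true := by decide +kernel
theorem cert2_ok7 : allList (check2 7) ((expLists 5).zip cert2_7) = true := by decide +kernel
theorem cert2_ok8 : allList (check2 8) ((expLists 5).zip cert2_8) = true := by decide +kernel

end CfsgLib.O73Three
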