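import Cfsg.Agent.Coset.O73.Simple
import Mathlib.GroupTheory.Sylow
import Mathlib.Data.Fintype.BigOperators

/-! Certificates for the classes of elements of order three in `Ω(7,3)`. -/

set_option autoImplicit false
set_option maxRecDepth 100000
set_option Elab.async false

namespace CfsgLib.O73Three

open CfsgLib.Coset

/-- All exponent lists of the given length with entries below three. -/
def expLists : Nat → List (List Nat)
  | 0 => [[]]
  | n + 1 => (expLists n).flatMap fun e => [e ++ [0], e ++ [1], e ++ [2]]

theorem mem_expLists : ∀ {n : Nat} {e : List Nat},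
    e ∈ expLists n ↔ e.length = n ∧ ∀ a ∈ e, a < 3 := by
  intro n
  induction n with
  | zero =>
    intro e
    simp only [expLists, List.mem_singleton]
    exact ⟨fun h => by subst h; simp, fun h => List.eq_nil_of_length_eq_zero h.1⟩
  | succ n ih =>
    intro e
    simp only [expLists, List.mem_flatMap, List.mem_cons, List.mem_nil_iff, or_false]
    constructor
    · rintro ⟨f, hf, hfe⟩
      obtain ⟨hl, hb⟩ := ih.mp hf
      rcases hfe with rfl | rfl | rfl <;>
      · refine ⟨by simp [hl], fun a ha => ?_⟩
        rcases List.mem_append.mp ha with ha | ha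
        · exact hb a ha
        · rw [List.mem_singleton] at ha; omega
    · rintro ⟨hl, hb⟩
      rcases List.eq_nil_or_concat e with rfl | ⟨f, a, rfl⟩
      · simp at hl
      · simp only [List.concat_eq_append] at hl hb ⊢
        refine ⟨f, ih.mpr ⟨by simpa using hl, fun b hb' => hb b (by simp [hb'])⟩, ?_⟩
        have := hb a (by simp)
        rcases a with _ | _ | _ | a
        · simp
        · simp
        · simp
        · omega

/-- Product of powers of the listed words. -/
def powWord (ws : List (List Nat)) (e : List Nat) : List Nat :=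
  (ws.zip e).flatMap fun p => (List.replicate p.2 p.1).flatten

theorem powWord_append {ws ws' : List (List Nat)} {e e' : List Nat} (h : ws.length = e.length) :
    powWord (ws ++ ws') (e ++ e') = powWord ws e ++ powWord ws' e' := by
  simp [powWord, List.zip_append h, List.flatMap_append]

theorem powWord_letters {k : Nat} {ws : List (List Nat)} (h : checkLetters k ws = true)
    (e : List Nat) : ∀ l ∈ powWord ws e, l < k := by
  intro l hl
  obtain ⟨⟨w, n⟩, hp, hl⟩ := List.mem_flatMap.mp hl
  obtain ⟨v, hv, hl⟩ := List.mem_flatten.mp hl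
  have hvw : v = w := (List.mem_replicate.mp hv).2
  exact letters_lt h w (List.of_mem_zip hp).1 l (hvw ▸ hl)

/-- The base. -/
def baseN : List Nat := [0, 96, 524]

/-- The words have the same image on the base. -/
noncomputable def sameB (v w : List Nat) : Bool :=
  cond (checkLetters 8 [v])
    (cond (checkLetters 8 [w])
      (allList (fun b => Nat.beq (follow (tget O73.Top.Tb) b v) (follow (tget O73.Top.Tb) b w)) baseN)
      false) false

theorem ev_eq {v w : List Nat} (h : sameB v w = true) : ev O73.Lp v = ev O73.Lp w := by
  simp only [sameB, cond_false_eq_true] at h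
  exact O73.matches_ρ.ev_eq_of_base O73.base_bot (by rw [O73.len_Lp]; exact h.1)
    (by rw [O73.len_Lp]; exact h.2.1) h.2.2

/-- The word moves a base point. -/
noncomputable def movesB (v : List Nat) : Bool :=
  cond (checkLetters 8 [v])
    (cond (allList (fun b => Nat.beq (follow (tget O73.Top.Tb) b v) b) baseN) false true) false

theorem ev_ne_one {v : List Nat} (h : movesB v = true) : ev O73.Lp v ≠ 1 := by
  simp only [movesB, cond_false_eq_true] at h
  intro he
  have hl : checkLetters (O73.Lp).length [v] = true := by rw [O73.len_Lp]; exact h.1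
  have hall : allList (fun b => Nat.beq (follow (tget O73.Top.Tb) b v) b) baseN = true := by
    refine allList_iff.mpr fun b hb => ?_
    have hb' : b < 3159 := by
      simp only [baseN, List.mem_cons, List.mem_nil_iff, or_false] at hb; omega
    have hm : ev O73.Lp v ∈ pstab O73.ρ ⟨b, hb'⟩ := he ▸ Subgroup.one_mem _
    rw [(O73.matches_ρ.mem_pstab_iff ⟨b, hb'⟩ (letters_lt hl v (by simp))).mp hm]
    simp
  rw [hall] at h
  simp at h

theorem fl_inv (x : Nat) : fl O73.Lp x = (fl O73.Lp x)⁻¹ :=
  (inv_eq_of_mul_eq_one_right (O73.sq_all x)).symm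

theorem ev_reverse' (w : List Nat) : ev O73.Lp w.reverse = (ev O73.Lp w)⁻¹ := by
  induction w with
  | nil => simp
  | cons x w ih =>
    rw [List.reverse_cons, ev_append, ev_cons, ev_cons, ev_nil, mul_one, ih, mul_inv_rev, ← fl_inv]

/-- A conjugation `c⁻¹ * x * c`. -/
def conjWord (c x : List Nat) : List Nat := c.reverse ++ x ++ c

theorem ev_conjWord (c x : List Nat) :
    ev O73.Lp (conjWord c x) = (ev O73.Lp c)⁻¹ * ev O73.Lp x * ev O73.Lp c := by
  rw [conjWord, ev_append, ev_append, ev_reverse']

section Poly

variable (gw : List (List Nat))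

/-- The first `j` words generate this. -/
noncomputable def Sc (j : Nat) : Subgroup O73.P := genW O73.Lp (gw.take j)

/-- Each generator normalises what precedes it, and its cube lies there. -/
noncomputable def checkPC (norm : List (List (List Nat))) (cube : List (List Nat)) : Bool :=
  allList (fun j =>
    cond (allList (fun i =>
        cond (cond (Nat.beq ((norm.getD j []).getD i []).length j)
            (allList (fun a => Nat.ble (Nat.add a 1) 3) ((norm.getD j []).getD i [])) false)
          (sameB (gw.getD j [] ++ gw.getD i [] ++ (gw.getD j []).reverse)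
            (powWord (gw.take j) ((norm.getD j []).getD i []))) false) (List.range j))
      (cond (cond (Nat.beq (cube.getD j []).length j)
          (allList (fun a => Nat.ble (Nat.add a 1) 3) (cube.getD j [])) false)
        (sameB (gw.getD j [] ++ gw.getD j [] ++ gw.getD j []) (powWord (gw.take j) (cube.getD j [])))
        false)
      false) (List.range gw.length)

theorem powWord_mem (j : Nat) (e : List Nat) : ev O73.Lp (powWord (gw.take j) e) ∈ Sc gw j := by
  unfold powWord
  suffices h : ∀ l : List (List Nat × Nat), (∀ p ∈ l, p.1 ∈ gw.take j) →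
      ev O73.Lp (l.flatMap fun p => (List.replicate p.2 p.1).flatten) ∈ Sc gw j from
    h _ fun p hp => (List.of_mem_zip hp).1
  intro l hl
  induction l with
  | nil => simp
  | cons p l ih =>
    rw [List.flatMap_cons, ev_append, ← pow_ev]
    exact mul_mem (pow_mem (ev_mem_genW (hl p (by simp))) _) (ih fun q hq => hl q (by simp [hq]))

theorem Sc_decomp {norm : List (List (List Nat))} {cube : List (List Nat)}
    (hc : checkPC gw norm cube = true) : ∀ j ≤ gw.length, ∀ x ∈ Sc gw j,
      ∃ e ∈ expLists j, x = ev O73.Lp (powWord (gw.take j) e) := by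
  intro j
  induction j with
  | zero =>
    intro _ x hx
    have : x = 1 := by simpa [Sc, genW] using hx
    exact ⟨[], by simp [expLists], by simp [this, powWord]⟩
  | succ j ih =>
    intro hj x hx
    haveI := O73.card_le.1
    have hcj := allList_iff.mp hc j (List.mem_range.mpr (by omega))
    simp only [cond_false_eq_true] at hcj
    obtain ⟨hnorm, ⟨-, -⟩, hcube⟩ := hcj
    set g := ev O73.Lp (gw.getD j []) with hg
    have hjl : j < gw.length := by omega
    have htake : gw.take (j + 1) = gw.take j ++ [gw.getD j []] := by
      rw [List.take_succ, List.getElem?_eq_getElem hjl, List.getD_eq_getElem _ _ hjl]; rfl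
    have hgn : ∀ y ∈ Sc gw j, g * y * g⁻¹ ∈ Sc gw j := by
      intro y hy
      refine Subgroup.closure_induction (p := fun y _ => g * y * g⁻¹ ∈ Sc gw j) ?_ ?_ ?_ ?_ hy
      · rintro _ ⟨w, hw, rfl⟩
        obtain ⟨i, hi, rfl⟩ := List.getElem_of_mem (show w ∈ gw.take j from hw)
        have hij : i < j := by simp at hi; omega
        have h := allList_iff.mp hnorm i (List.mem_range.mpr hij)
        simp only [cond_false_eq_true] at h
        have he := ev_eq h.2
        rw [ev_append, ev_append, ev_reverse'] at he
        have hget : (gw.take j)[i] = gw.getD i [] := by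
          rw [List.getElem_take, List.getD_eq_getElem _ _ (by omega)]
        rw [hget, hg, he]
        exact powWord_mem gw j _
      · simp
      · intro a b _ _ ha hb
        rw [show g * (a * b) * g⁻¹ = g * a * g⁻¹ * (g * b * g⁻¹) by group]
        exact mul_mem ha hb
      · intro a _ ha
        rw [show g * a⁻¹ * g⁻¹ = (g * a * g⁻¹)⁻¹ by group]
        exact inv_mem ha
    have hg3 : g * g * g ∈ Sc gw j := by
      have he := ev_eq hcube
      rw [ev_append, ev_append] at he
      rw [hg, he]
      exact powWord_mem gw j _
    have hpow : ∀ k : Nat, ∀ y ∈ Sc gw j, g ^ k * y * (g ^ k)⁻¹ ∈ Sc gw j := by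
      intro k
      induction k with
      | zero => intro y hy; simpa using hy
      | succ k ihk =>
        intro y hy
        rw [pow_succ', show g * g ^ k * y * (g * g ^ k)⁻¹ = g * (g ^ k * y * (g ^ k)⁻¹) * g⁻¹ by group]
        exact hgn _ (ihk y hy)
    -- elements of the next subgroup
    have hdec : ∃ s ∈ Sc gw j, ∃ k : Nat, x = s * g ^ k := by
      have hx' : x ∈ Subgroup.closure (ev O73.Lp '' {w | w ∈ gw.take (j + 1)}) := hx
      clear hx
      have hfin : ∀ y : O73.P, ∃ n : Nat, y⁻¹ = y ^ n := fun y =>
        ⟨orderOf y - 1, by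
          refine inv_eq_of_mul_eq_one_right ?_
          rw [← pow_succ', Nat.sub_add_cancel (orderOf_pos y), pow_orderOf_eq_one]⟩
      have hmul : ∀ a b : O73.P, (∃ s ∈ Sc gw j, ∃ k : Nat, a = s * g ^ k) →
          (∃ s ∈ Sc gw j, ∃ k : Nat, b = s * g ^ k) → ∃ s ∈ Sc gw j, ∃ k : Nat, a * b = s * g ^ k := by
        rintro _ _ ⟨s, hs, k, rfl⟩ ⟨t, ht, l, rfl⟩
        exact ⟨s * (g ^ k * t * (g ^ k)⁻¹), mul_mem hs (hpow k t ht), k + l, by rw [pow_add]; group⟩
      induction hx' using Subgroup.closure_induction with
      | mem y hy =>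
        obtain ⟨w, hw, rfl⟩ := hy
        have hw' : w ∈ gw.take j ++ [gw.getD j []] := htake ▸ hw
        rcases List.mem_append.mp hw' with h | h
        · exact ⟨_, ev_mem_genW h, 0, by simp⟩
        · rw [List.mem_singleton] at h
          exact ⟨1, one_mem _, 1, by rw [h, hg]; simp⟩
      | one => exact ⟨1, one_mem _, 0, by simp⟩
      | mul a b _ _ ha hb => exact hmul a b ha hb
      | inv a _ ha =>
        obtain ⟨n, hn⟩ := hfin a
        have hc : ∀ n : Nat, ∃ s ∈ Sc gw j, ∃ k : Nat, a ^ n = s * g ^ k := by
          intro n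
          induction n with
          | zero => exact ⟨1, one_mem _, 0, by simp⟩
          | succ n ihn => rw [pow_succ]; exact hmul _ _ ihn ha
        rw [hn]; exact hc n
    obtain ⟨s, hs, k, rfl⟩ := hdec
    have hs' : s * (g * g * g) ^ (k / 3) ∈ Sc gw j := mul_mem hs (pow_mem hg3 _)
    obtain ⟨e, he, hse⟩ := ih (by omega) _ hs'
    obtain ⟨hel, heb⟩ := mem_expLists.mp he
    refine ⟨e ++ [k % 3], mem_expLists.mpr ⟨by simp [hel], fun a ha => ?_⟩, ?_⟩
    · rcases List.mem_append.mp ha with ha | ha
      · exact heb a ha
      · rw [List.mem_singleton] at ha; omega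
    · have h3 : g * g * g = g ^ 3 := by rw [pow_succ, pow_succ, pow_one]
      rw [htake, powWord_append (by rw [List.length_take]; omega), ev_append, ← hse, h3]
      simp only [powWord, List.zip_cons_cons, List.zip_nil_left, List.flatMap_cons, List.flatMap_nil,
        List.append_nil]
      rw [← pow_ev, ← hg, mul_assoc, ← pow_mul, ← pow_add, Nat.div_add_mod]

theorem card_Sc_le {norm : List (List (List Nat))} {cube : List (List Nat)}
    (hc : checkPC gw norm cube = true) : Nat.card (Sc gw gw.length) ≤ 3 ^ gw.length := by
  let f : (Fin gw.length → Fin 3) → Sc gw gw.length := fun v =>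
    ⟨_, powWord_mem gw gw.length (List.ofFn fun i => (v i : Nat))⟩
  have hf : Function.Surjective f := by
    rintro ⟨x, hx⟩
    obtain ⟨e, he, rfl⟩ := Sc_decomp gw hc _ le_rfl x hx
    obtain ⟨hel, heb⟩ := mem_expLists.mp he
    refine ⟨fun i => ⟨e[i.val]'(by omega), heb _ (List.getElem_mem _)⟩, Subtype.ext ?_⟩
    show ev O73.Lp (powWord _ (List.ofFn fun i : Fin gw.length => e[i.val]'(by omega))) = _
    have : (List.ofFn fun i : Fin gw.length => e[i.val]'(by omega)) = e :=
      List.ext_getElem (by simp [hel]) fun i h1 h2 => by simp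
    rw [this]
  have := Nat.card_le_card_of_surjective f hf
  simpa [Nat.card_eq_fintype_card] using this

end Poly

theorem getD_mem_of_lt {α : Type*} {l : List α} {i : Nat} {d : α} (h : i < l.length) :
    l.getD i d ∈ l := by
  rw [List.getD_eq_getElem _ _ h]; exact List.getElem_mem h

/-- One case in the second stage: trivial, of other order, or conjugate to a representative. -/
noncomputable def checkLeaf (pool reps : List (List Nat)) (x : List Nat) (c : List Nat × Nat) : Bool :=
  cond (Nat.beq c.2 0) (sameB x [])
    (cond (Nat.beq c.2 1) (movesB (x ++ x ++ x))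
      (cond (Nat.ble (Nat.add (Nat.sub c.2 2) 1) reps.length)
        (sameB (conjWord (c.1.flatMap fun a => pool.getD a []) x) (reps.getD (Nat.sub c.2 2) [])) false))

theorem of_checkLeaf {pool reps : List (List Nat)} {x : List Nat} {c : List Nat × Nat}
    (h : checkLeaf pool reps x c = true) :
    ev O73.Lp x = 1 ∨ ev O73.Lp x ^ 3 ≠ 1 ∨
      ∃ r < reps.length, ∃ g, g⁻¹ * ev O73.Lp x * g = ev O73.Lp (reps.getD r []) := by
  unfold checkLeaf at h
  cases h0 : Nat.beq c.2 0 with
  | true => rw [h0, cond_true] at h; exact Or.inl ((ev_eq h).trans (ev_nil _))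
  | false =>
    rw [h0, cond_false] at h
    cases h1 : Nat.beq c.2 1 with
    | true =>
      rw [h1, cond_true] at h
      refine Or.inr (Or.inl ?_)
      have := ev_ne_one h
      rwa [ev_append, ev_append, ← pow_two, ← pow_succ] at this
    | false =>
      rw [h1, cond_false, cond_false_eq_true] at h
      refine Or.inr (Or.inr ⟨c.2 - 2, Nat.ble_eq.mp h.1,
        ev O73.Lp (c.1.flatMap fun a => pool.getD a []), ?_⟩)
      rw [← ev_conjWord]; exact ev_eq h.2

end CfsgLib.O73Three
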