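import Cfsg.Agent.O73Three.ChecksA
import Cfsg.Agent.O73Three.ChecksB
import Cfsg.Agent.Coset.O73.Classical

/-! `Ω(7,3)` has seven classes of subgroups of order three. -/

set_option autoImplicit false
set_option maxRecDepth 100000
set_option Elab.async false

namespace CfsgLib.O73Three

open CfsgLib.Coset CfsgLib.Quad
open scoped Pointwise

local instance : Fact (Nat.Prime 3) := ⟨Nat.prime_three⟩

/-- The Sylow 3-subgroup. -/
noncomputable def S : Subgroup O73.P := Sc gw gw.length

theorem gw_len : gw.length = 9 := by decide +kernel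

theorem L0G_mem : ∀ w ∈ L0G, ev O73.Lp w ∈ S := by
  intro w hw
  obtain ⟨e, -, rfl⟩ := List.mem_map.mp hw
  have := powWord_mem gw gw.length e
  rwa [List.take_length] at this

theorem L1G_mem : ∀ w ∈ L1G, ev O73.Lp w ∈ S := by
  intro w hw
  obtain ⟨e, -, rfl⟩ := List.mem_map.mp hw
  have := powWord_mem gw gw.length e
  rwa [List.take_length] at this

theorem card_S : Nat.card S = 19683 := by
  haveI := O73.card_le.1
  refine le_antisymm ((card_Sc_le gw pc_ok).trans (by rw [gw_len]; norm_num)) ?_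
  have hl : ∀ g, checkLetters 8 g = true → checkLetters (O73.Lp).length g = true := by
    intro g h; rwa [O73.len_Lp]
  have h2 : (1 : Nat) ≤ Nat.card
      (S ⊓ baseStab O73.ρ ([(3136 : Fin 3159)] ++ [(3114 : Fin 3159)]) : Subgroup O73.P) := Nat.card_pos
  have h1 := orbit_step_in O73.matches_ρ S (base := [(3136 : Fin 3159)]) (β := 3114) (m := 9)
    (dm := 4) (gens := L1G) (P := L1P) (Inv := L1Inv) orbit1 (hl _ letters0.2) fix1 L1G_mem h2
  have h0 := orbit_step_in O73.matches_ρ S (base := []) (β := 3136) (m := 2187) (dm := 12)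
    (gens := L0G) (P := L0P) (Inv := L0Inv) orbit0 (hl _ letters0.1)
    (allList_iff.mpr fun g _ => allList_iff.mpr fun b hb => by simp at hb) L0G_mem h1
  simpa [baseStab] using h0

theorem mem_zip_of_mem {α β : Type*} {l : List α} {l' : List β} (h : l'.length = l.length) {a : α}
    (ha : a ∈ l) : ∃ b, (a, b) ∈ l.zip l' := by
  obtain ⟨i, hi, rfl⟩ := List.getElem_of_mem ha
  exact ⟨l'[i], List.mem_iff_getElem.mpr ⟨i, by simp [h, hi], by simp⟩⟩

theorem conj1_norm {a : Nat} (ha : a < cs1.length) :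
    ∀ y ∈ Sc gw 5, (ev O73.Lp (conj1 a))⁻¹ * y * ev O73.Lp (conj1 a) ∈ Sc gw 5 := by
  intro y hy
  set c := ev O73.Lp (conj1 a)
  refine Subgroup.closure_induction (p := fun y _ => c⁻¹ * y * c ∈ Sc gw 5) ?_ ?_ ?_ ?_ hy
  · rintro _ ⟨w, hw, rfl⟩
    obtain ⟨i, hi, rfl⟩ := List.getElem_of_mem (show w ∈ gw.take 5 from hw)
    have hi5 : i < 5 := by simp at hi; omega
    have h := allList_iff.mp (allList_iff.mp cs_ok a (List.mem_range.mpr ha)) i (List.mem_range.mpr hi5)
    have he := ev_eq h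
    rw [ev_conjWord] at he
    have hget : (gw.take 5)[i]'hi = gw.getD i [] := by
      rw [List.getElem_take, List.getD_eq_getElem _ _ (by rw [gw_len]; omega)]
    rw [hget, he]
    exact powWord_mem gw 5 _
  · simp
  · intro u v _ _ hu hv
    rw [show c⁻¹ * (u * v) * c = c⁻¹ * u * c * (c⁻¹ * v * c) by group]
    exact mul_mem hu hv
  · intro u _ hu
    rw [show c⁻¹ * u⁻¹ * c = (c⁻¹ * u * c)⁻¹ by group]
    exact inv_mem hu

theorem second {k : Nat} (hk : k < 9) {e : List Nat} (he : e ∈ expLists 5) :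
    let x := ev O73.Lp (powWord (gw.take 5) e ++ powWord (gw.drop 5) (kreps.getD k []))
    x = 1 ∨ x ^ 3 ≠ 1 ∨ ∃ r < R7.length, ∃ g, g⁻¹ * x * g = ev O73.Lp (R7.getD r []) := by
  have hlen : ∀ c ∈ cert2, c.length = (expLists 5).length := fun c hc => by
    rw [cert2_len.2]; exact Nat.eq_of_beq_eq_true (allList_iff.mp cert2_len.1 c hc)
  have key : ∀ c ∈ cert2, allList (check2 k) ((expLists 5).zip c) = true →
      ∃ p, check2 k (e, p) = true := fun c hc h => by
    obtain ⟨p, hp⟩ := mem_zip_of_mem (hlen c hc) he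
    exact ⟨p, allList_iff.mp h _ hp⟩
  obtain ⟨p, hp⟩ : ∃ p, check2 k (e, p) = true := by
    interval_cases k
    · exact key cert2_0 (by simp [cert2]) cert2_ok0
    · exact key cert2_1 (by simp [cert2]) cert2_ok1
    · exact key cert2_2 (by simp [cert2]) cert2_ok2
    · exact key cert2_3 (by simp [cert2]) cert2_ok3
    · exact key cert2_4 (by simp [cert2]) cert2_ok4
    · exact key cert2_5 (by simp [cert2]) cert2_ok5
    · exact key cert2_6 (by simp [cert2]) cert2_ok6
    · exact key cert2_7 (by simp [cert2]) cert2_ok7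
    · exact key cert2_8 (by simp [cert2]) cert2_ok8
  exact of_checkLeaf hp

theorem conj_rep_of_mem {x : O73.P} (hx : x ∈ S) (h1 : x ≠ 1) (h3 : x ^ 3 = 1) :
    ∃ r < R7.length, ∃ g, g⁻¹ * x * g = ev O73.Lp (R7.getD r []) := by
  obtain ⟨e, he, hxe⟩ := Sc_decomp gw pc_ok _ le_rfl x hx
  obtain ⟨hel, heb⟩ := mem_expLists.mp he
  rw [gw_len] at hel
  rw [List.take_length, ← List.take_append_drop 5 gw, ← List.take_append_drop 5 e,
    powWord_append (by simp [gw_len, hel]), ev_append] at hxe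
  have h4 : e.drop 5 ∈ expLists 4 :=
    mem_expLists.mpr ⟨by simp [hel], fun a ha => heb a (List.mem_of_mem_drop ha)⟩
  obtain ⟨⟨a, k, f⟩, hp⟩ := mem_zip_of_mem cert1_len h4
  have hc := allList_iff.mp cert1_ok _ hp
  simp only [check1, cond_false_eq_true] at hc
  have ha : a < cs1.length := Nat.ble_eq.mp hc.1.1
  have hk : k < 9 := Nat.ble_eq.mp hc.1.2
  have he1 := ev_eq hc.2
  rw [ev_conjWord, ev_append] at he1
  set c := ev O73.Lp (conj1 a)
  set u := c⁻¹ * ev O73.Lp (powWord (gw.take 5) (e.take 5)) * c * ev O73.Lp (powWord (gw.take 5) f) with hu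
  have humem : u ∈ Sc gw 5 := mul_mem (conj1_norm ha _ (powWord_mem gw 5 _)) (powWord_mem gw 5 _)
  obtain ⟨f', hf', huf⟩ := Sc_decomp gw pc_ok 5 (by rw [gw_len]; norm_num) u humem
  set y := ev O73.Lp (powWord (gw.take 5) f' ++ powWord (gw.drop 5) (kreps.getD k [])) with hy
  have hxy : c⁻¹ * x * c = y := by
    rw [hy, ev_append, ← huf, hu, hxe, mul_assoc _ (ev O73.Lp (powWord (gw.take 5) f)), ← he1]
    group
  rcases second hk hf' with h | h | ⟨r, hr, g, hg⟩
  · exfalso
    refine h1 ?_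
    have : c⁻¹ * x * c = 1 := hxy.trans h
    calc x = c * (c⁻¹ * x * c) * c⁻¹ := by group
      _ = 1 := by rw [this]; simp
  · exfalso
    refine h ?_
    rw [← hy, ← hxy, show (c⁻¹ * x * c) ^ 3 = c⁻¹ * x ^ 3 * c by simp [pow_succ, mul_assoc], h3]
    simp
  · refine ⟨r, hr, c * g, ?_⟩
    rw [← hg, ← hy, ← hxy]
    group

theorem conj_rep {x : O73.P} (h1 : x ≠ 1) (h3 : x ^ 3 = 1) :
    ∃ r < R7.length, ∃ g, g⁻¹ * x * g = ev O73.Lp (R7.getD r []) := by
  haveI := O73.card_le.1
  have hS : IsPGroup 3 S := IsPGroup.of_card (n := 9) (by rw [card_S]; norm_num)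
  have hidx : ¬ 3 ∣ S.index := by
    have h := Subgroup.card_mul_index S
    rw [card_S, O73.card_and_injective.1] at h
    have : S.index = 232960 := by omega
    rw [this]; norm_num
  let Q : Sylow 3 O73.P := hS.toSylow hidx
  have hx : IsPGroup 3 (Subgroup.zpowers x) :=
    IsPGroup.of_card (n := 1) (by rw [Nat.card_zpowers, orderOf_eq_prime h3 h1, pow_one])
  obtain ⟨R, hR⟩ := hx.exists_le_sylow
  obtain ⟨g, hg⟩ := MulAction.exists_smul_eq O73.P R Q
  have hmem : g * x * g⁻¹ ∈ S := by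
    have h : MulAut.conj g • x ∈ MulAut.conj g • (R : Subgroup O73.P) :=
      Subgroup.smul_mem_pointwise_smul _ _ _ (hR (Subgroup.mem_zpowers x))
    rw [← Sylow.coe_subgroup_smul] at h
    change MulAut.conj g • x ∈ ((g • R : Sylow 3 O73.P) : Subgroup O73.P) at h
    rw [hg] at h
    exact h
  obtain ⟨r, hr, k, hk⟩ := conj_rep_of_mem hmem
    (fun h => h1 (by rwa [conj_eq_one_iff] at h))
    (by rw [conj_pow, h3, mul_one, mul_inv_cancel])
  refine ⟨r, hr, g⁻¹ * k, ?_⟩
  rw [← hk]; group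

/-- Counting below a bound. -/
noncomputable def countBelow (n : Nat) (p : Nat → Bool) : Nat :=
  Nat.rec 0 (fun i ih => cond (p i) (Nat.add ih 1) ih) n

theorem countBelow_eq (n : Nat) (p : Nat → Bool) :
    countBelow n p = Nat.card {i : Fin n // p i = true} := by
  classical
  rw [Nat.card_eq_fintype_card, Fintype.card_subtype]
  induction n with
  | zero => simp [countBelow]
  | succ n ih =>
    have e : (Finset.univ.filter fun i : Fin (n + 1) => p i = true).card =
        (Finset.univ.filter fun i : Fin n => p i = true).card + (if p n = true then 1 else 0) := by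
      simp only [Finset.card_filter, Fin.sum_univ_castSucc]
      rfl
    rw [e, ← ih]
    change cond (p n) (Nat.add (countBelow n p) 1) (countBelow n p) = _
    cases p n <;> simp

/-- Fixed points among the 3159. -/
noncomputable def fixA (x : O73.P) : Nat := Nat.card {i : Fin 3159 // O73.ρ x i = i}

/-- Fixed singular vectors. -/
noncomputable def fixB (x : O73.P) : Nat :=
  Nat.card {v : O73.V // (O73.φ x).1 v = v ∧ O73.Q v = 0}

theorem fix_conj {X : Type*} {G : Type*} [Group G] (f : G →* Equiv.Perm X) (s : X → Prop)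
    (hs : ∀ g v, s v → s (f g v)) (g x : G) :
    Nat.card {v : X // f (g * x * g⁻¹) v = v ∧ s v} = Nat.card {v : X // f x v = v ∧ s v} := by
  refine Nat.card_congr ((Equiv.subtypeEquiv (f g) fun v => ?_).symm)
  constructor
  · rintro ⟨h1, h2⟩; exact ⟨by simp [h1], hs g v h2⟩
  · rintro ⟨h1, h2⟩
    refine ⟨?_, ?_⟩
    · simpa using h1
    · simpa using hs g⁻¹ _ h2

theorem fix_inv {X : Type*} {G : Type*} [Group G] (f : G →* Equiv.Perm X) (s : X → Prop) (x : G) :
    Nat.card {v : X // f x⁻¹ v = v ∧ s v} = Nat.card {v : X // f x v = v ∧ s v} := by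
  refine Nat.card_congr (Equiv.subtypeEquivRight fun v => ?_)
  rw [map_inv, Equiv.Perm.inv_def, Equiv.symm_apply_eq, eq_comm]

/-- The permutations of the vectors. -/
noncomputable def permV : O73.P →* Equiv.Perm O73.V where
  toFun x := (O73.φ x).1.toEquiv
  map_one' := by ext; simp
  map_mul' g h := by ext; simp

theorem permV_sing (g : O73.P) (v : O73.V) (h : O73.Q v = 0) : O73.Q (permV g v) = 0 := by
  show O73.Q ((O73.φ g).1 v) = 0
  rw [Q_preserved, h]
where
  Q_preserved : O73.Q ((O73.φ g).1 v) = O73.Q v := (O73.φ g).2 v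

theorem fixA_conj (g x : O73.P) : fixA (g * x * g⁻¹) = fixA x := by
  have := fix_conj O73.ρ (fun _ => True) (fun _ _ h => h) g x
  simpa [fixA] using this

theorem fixA_inv (x : O73.P) : fixA x⁻¹ = fixA x := by
  simpa [fixA] using fix_inv O73.ρ (fun _ => True) x

theorem fixB_conj (g x : O73.P) : fixB (g * x * g⁻¹) = fixB x :=
  fix_conj permV (fun v => O73.Q v = 0) permV_sing g x

theorem fixB_inv (x : O73.P) : fixB x⁻¹ = fixB x := fix_inv permV (fun v => O73.Q v = 0) x

/-- The digit. -/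
def dig (i k : Nat) : Nat := i / 3 ^ k % 3

/-- The value of the form on a numbered vector. -/
def qN (i : Nat) : Nat :=
  (dig i 0 * dig i 0 + dig i 1 * dig i 4 + dig i 2 * dig i 5 + dig i 3 * dig i 6) % 3

theorem Q_dec (i : Nat) : O73.Q (O73.dec i) = (qN i : ZMod 3) := by
  rw [show O73.Q (O73.dec i) = Cfsg.quadFormOdd 3 (ZMod 3) (O73.dec i) from congrFun (oddQ_coe 3) _]
  simp [Cfsg.quadFormOdd, Fin.sum_univ_three, O73.dec, O73.pos, qN, dig]
  ring

/-- The test for a fixed singular vector. -/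
noncomputable def fixTest (w : List Nat) (i : Nat) : Bool :=
  cond (Nat.beq (follow (tget O73.Vec.Tb) i w) i) (Nat.beq (qN i) 0) false

theorem fixA_ev {w : List Nat} (hl : ∀ l ∈ w, l < 8) :
    fixA (ev O73.Lp w) = countBelow 3159 fun i => Nat.beq (follow (tget O73.Top.Tb) i w) i := by
  rw [countBelow_eq]
  refine Nat.card_congr (Equiv.subtypeEquivRight fun i => ?_)
  rw [← mem_pstab, O73.matches_ρ.mem_pstab_iff i (fun l h => O73.len_Lp.symm ▸ hl l h)]
  exact ⟨fun h => by rw [h]; simp, Nat.eq_of_beq_eq_true⟩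

theorem fixB_ev {w : List Nat} (hl : ∀ l ∈ w, l < 8) :
    fixB (ev O73.Lp w) = countBelow 2187 (fixTest w) := by
  rw [countBelow_eq]
  refine Nat.card_congr (Equiv.subtypeEquiv O73.enc fun v => ?_)
  have h1 : O73.φ (ev O73.Lp w) = ev O73.Li w := numHom_ev _ _ _
  have h2 : O73.ψ (ev O73.Li w) (O73.enc v) = O73.enc v ↔
      follow (tget O73.Vec.Tb) (O73.enc v) w = O73.enc v :=
    O73.matches_ψ.fix_iff (fun l h => O73.len_Li.symm ▸ hl l h)
  have h3 : O73.ψ (ev O73.Li w) (O73.enc v) = O73.enc ((ev O73.Li w).1 v) := by simp [O73.ψ]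
  have h4 : (ev O73.Li w).1 v = v ↔ O73.ψ (ev O73.Li w) (O73.enc v) = O73.enc v := by
    rw [h3, O73.enc.apply_eq_iff_eq]
  have hq : qN (O73.enc v) < 3 := Nat.mod_lt _ (by norm_num)
  have h5 : O73.Q v = 0 ↔ qN (O73.enc v) = 0 := by
    conv_lhs => rw [← O73.dec_encN v]
    rw [Q_dec, O73.enc_val, ZMod.natCast_eq_zero_iff]
    rw [O73.enc_val] at hq
    omega
  rw [h1, h4, h2, h5]
  simp only [fixTest, cond_false_eq_true]
  exact ⟨fun ⟨a, b⟩ => ⟨by rw [a]; simp, by rw [b]; rfl⟩,
    fun ⟨a, b⟩ => ⟨Nat.eq_of_beq_eq_true a, Nat.eq_of_beq_eq_true b⟩⟩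

/-- The invariants of the representatives. -/
def invs : List (Nat × Nat) := [(0, 99), (0, 81), (81, 63), (27, 27), (0, 27), (27, 9), (0, 9)]

theorem invs_ok : ((List.range 7).all fun r =>
    decide (countBelow 3159 (fun i => Nat.beq (follow (tget O73.Top.Tb) i (R7.getD r [])) i) =
      (invs.getD r (0, 0)).1 ∧
      countBelow 2187 (fixTest (R7.getD r [])) = (invs.getD r (0, 0)).2)) = true := by decide +kernel

theorem invs_inj : ((List.range 7).all fun r => (List.range 7).all fun s =>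
    decide (invs.getD r (0, 0) = invs.getD s (0, 0) → r = s)) = true := by decide +kernel

/-- A representative. -/
noncomputable def rep (i : Fin 7) : O73.P := ev O73.Lp (R7.getD i.val [])

theorem rep_spec (i : Fin 7) : (∀ l ∈ R7.getD i.val [], l < 8) ∧ rep i ^ 3 = 1 ∧ rep i ≠ 1 := by
  have h := List.all_eq_true.mp reps_cube _ (getD_mem_of_lt (d := []) (by rw [R7_len]; exact i.isLt))
  simp only [Bool.and_eq_true] at h
  refine ⟨letters_lt h.1.1 _ (by simp), ?_, ev_ne_one h.2⟩
  have he := ev_eq h.1.2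
  rw [ev_append, ev_append, ev_nil, ← pow_two, ← pow_succ] at he
  exact he

theorem rep_invs (i : Fin 7) : (fixA (rep i), fixB (rep i)) = invs.getD i.val (0, 0) := by
  have h := List.all_eq_true.mp invs_ok i.val (List.mem_range.mpr i.isLt)
  rw [decide_eq_true_eq] at h
  rw [rep, fixA_ev (rep_spec i).1, fixB_ev (rep_spec i).1, h.1, h.2]

theorem rep_inj {i j : Fin 7} (hA : fixA (rep i) = fixA (rep j)) (hB : fixB (rep i) = fixB (rep j)) :
    i = j := by
  have h := List.all_eq_true.mp (List.all_eq_true.mp invs_inj i.val (List.mem_range.mpr i.isLt))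
    j.val (List.mem_range.mpr j.isLt)
  rw [decide_eq_true_eq] at h
  exact Fin.ext (h (by rw [← rep_invs, ← rep_invs, hA, hB]))

theorem classes_P : ∃ Y : Fin 7 → Subgroup O73.P, (∀ i, Nat.card (Y i) = 3) ∧
    (∀ i j, (∃ g : O73.P, (Y i).map (MulAut.conj g).toMonoidHom = Y j) → i = j) ∧
    (∀ X : Subgroup O73.P, Nat.card X = 3 →
      ∃ i, ∃ g : O73.P, X.map (MulAut.conj g).toMonoidHom = Y i) := by
  refine ⟨fun i => Subgroup.zpowers (rep i), fun i => ?_, ?_, ?_⟩
  · rw [Nat.card_zpowers, orderOf_eq_prime (rep_spec i).2.1 (rep_spec i).2.2]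
  · rintro i j ⟨g, hg⟩
    have hm : g * rep i * g⁻¹ ∈ Subgroup.zpowers (rep j) :=
      (show (Subgroup.zpowers (rep i)).map _ = Subgroup.zpowers (rep j) from hg) ▸
        Subgroup.mem_map.mpr ⟨rep i, Subgroup.mem_zpowers _, rfl⟩
    haveI := O73.card_le.1
    obtain ⟨k, hk⟩ := mem_powers_iff_mem_zpowers.mpr hm
    have hk3 : rep j ^ (k % 3) = g * rep i * g⁻¹ := by
      rw [← hk]; exact (pow_eq_pow_mod k (rep_spec j).2.1).symm
    have hne : g * rep i * g⁻¹ ≠ 1 := fun h => (rep_spec i).2.2 (by rwa [conj_eq_one_iff] at h)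
    have : g * rep i * g⁻¹ = rep j ∨ g * rep i * g⁻¹ = (rep j)⁻¹ := by
      have hlt : k % 3 < 3 := Nat.mod_lt _ (by norm_num)
      interval_cases k % 3
      · exact absurd (by simpa using hk3.symm) hne
      · exact Or.inl (by simpa using hk3.symm)
      · refine Or.inr ?_
        rw [← hk3]
        refine eq_inv_of_mul_eq_one_left ?_
        rw [← pow_succ]
        exact (rep_spec j).2.1
    refine rep_inj ?_ ?_
    · rw [← fixA_conj g (rep i)]
      rcases this with h | h <;> rw [h]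
      rw [fixA_inv]
    · rw [← fixB_conj g (rep i)]
      rcases this with h | h <;> rw [h]
      rw [fixB_inv]
  · intro X hX
    haveI : Nontrivial X := by
      haveI := Nat.finite_of_card_ne_zero (α := X) (by omega)
      exact Finite.one_lt_card_iff_nontrivial.mp (by omega)
    obtain ⟨⟨x, hxX⟩, hx1⟩ := exists_ne (1 : X)
    have hx1' : x ≠ 1 := fun h => hx1 (Subtype.ext h)
    have hx3 : x ^ 3 = 1 := by
      have := pow_card_eq_one' (x := (⟨x, hxX⟩ : X))
      rw [hX] at this
      exact congrArg Subtype.val this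
    obtain ⟨r, hr, g, hg⟩ := conj_rep hx1' hx3
    rw [R7_len] at hr
    refine ⟨⟨r, hr⟩, g⁻¹, ?_⟩
    have hXz : X = Subgroup.zpowers x := by
      haveI := Nat.finite_of_card_ne_zero (α := X) (by omega)
      refine (Subgroup.eq_of_le_of_card_ge (Subgroup.zpowers_le.mpr hxX) ?_).symm
      rw [hX, Nat.card_zpowers, orderOf_eq_prime hx3 hx1']
    have : (MulAut.conj g⁻¹) x = rep ⟨r, hr⟩ := by
      rw [MulAut.conj_apply, inv_inv]; exact hg
    rw [hXz, MonoidHom.map_zpowers]
    show Subgroup.zpowers ((MulAut.conj g⁻¹) x) = _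
    rw [this]

end CfsgLib.O73Three
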